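import Cfsg.Agent.Fi22Twist.Hom

/-!
The image of Fi22 acts absolutely irreducibly: only scalars commute with it, and it is not trivial.
-/

set_option autoImplicit false

namespace CfsgLib.Fi22Twist

open Cfsg.Lie CfsgLib.Chevalley
open scoped Matrix
open Cfsg.Spor.Fi22 (Gen)

variable {K : Type*} [Field K] (w : K)

local notation "T" => toMat chevE6 w

/-- A packed vector as a vector. -/
def vecV (v : V) : chevE6.Idx → K := fun row => val w v (enc chevE6 row)

theorem enc_lt' (x : chevE6.Idx) : enc chevE6 x < 78 := by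
  rcases x with j | s <;> simp only [enc]
  · have := j.isLt; simp only [show chevE6.rank = 6 from rfl] at this ⊢; omega
  · have := s.isLt; simp only [show chevE6.nroots = 72 from rfl] at this
    simp only [show chevE6.rank = 6 from rfl]; omega

theorem exists_enc {k : ℕ} (hk : k < 78) : ∃ x : chevE6.Idx, enc chevE6 x = k := by
  by_cases h : k < chevE6.rank
  · exact ⟨Sum.inl ⟨k, h⟩, rfl⟩
  · refine ⟨Sum.inr ⟨k - chevE6.rank, ?_⟩, ?_⟩
    · simp only [show chevE6.rank = 6 from rfl, show chevE6.nroots = 72 from rfl] at h ⊢; omega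
    · simp only [enc]; omega

theorem toMat_col (M : List V) (col : chevE6.Idx) :
    T M *ᵥ Pi.single col 1 = vecV w (M.getD (enc chevE6 col) (0, 0)) := by
  funext row
  simp [Matrix.mulVec_single, toMat, vecV]

variable [CharP K 2] (hw : w * w = w + 1)
include hw

theorem toMat_vec {A : List V} (hA : A.length = 78) (v : V) :
    vecV w (app A v.1 v.2) = T A *ᵥ vecV w v := by
  funext row
  rw [vecV, val_app w hw, hA, show (78 : ℕ) = chevE6.rank + chevE6.nroots from rfl,
    Finset.sum_range_add]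
  simp only [Matrix.mulVec, dotProduct, Fintype.sum_sum_type]
  rw [Finset.sum_range, Finset.sum_range]
  congr 1 <;> refine Finset.sum_congr rfl fun k _ => ?_ <;>
    simp [toMat, vecV, enc, mul_comm]

omit hw in
theorem toMat_addP {A B : List V} (hA : A.length = 78) (hB : B.length = 78) :
    T (addP A B) = T A + T B := by
  ext row col
  have := enc_lt' col
  rw [Matrix.add_apply, toMat, toMat, toMat, addP,
    List.getD_eq_getElem _ _ (by simp [hA, hB]; exact this), List.getElem_map, List.getElem_zip,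
    List.getD_eq_getElem _ _ (by rw [hA]; exact this),
    List.getD_eq_getElem _ _ (by rw [hB]; exact this), val_vadd]

theorem certSum_apply (u : chevE6.Idx → K) : ∀ (Ls Ms : List (List V)),
    (∀ L ∈ Ls, L.length = 78) → (∀ M ∈ Ms, M.length = 78 ∧ T M *ᵥ u = u) →
    (certSum Ls Ms).length = 78 ∧ T (certSum Ls Ms) *ᵥ u = 0
  | [], _, _, _ | _ :: _, [], _, _ => by
    refine ⟨List.length_replicate, ?_⟩
    have : T (List.replicate 78 (0, 0)) = (0 : Matrix chevE6.Idx chevE6.Idx K) := by
      ext row col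
      rw [toMat, List.getD_eq_getElem _ _ (by simpa using enc_lt' col), List.getElem_replicate,
        val_zero, Matrix.zero_apply]
    exact (congrArg (fun X => X *ᵥ u) this).trans (Matrix.zero_mulVec u)
  | L :: Ls, M :: Ms, hL, hM => by
    rw [List.forall_mem_cons] at hL hM
    obtain ⟨hl, hz⟩ := certSum_apply u Ls Ms hL.2 hM.2
    have ha : (addP M (idP 78)).length = 78 := by simp [addP, hM.1.1, idP]
    have hm : (mulP L (addP M (idP 78))).length = 78 := by rw [length_mulP, ha]
    have e : certSum (L :: Ls) (M :: Ms) =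
        addP (mulP L (addP M (idP 78))) (certSum Ls Ms) := rfl
    refine ⟨by rw [e, addP, List.length_map, List.length_zip, hm, hl, min_self], ?_⟩
    rw [e, toMat_addP w hm hl, toMat_mul' w hw hL.1 ha, toMat_addP w hM.1.1 (by simp [idP]),
      toMat_id' w, Matrix.add_mulVec, ← Matrix.mulVec_mulVec, Matrix.add_mulVec, hM.1.2,
      Matrix.one_mulVec, hz, add_zero, show u + u = 0 from funext fun _ => CharTwo.add_self_eq_zero _,
      Matrix.mulVec_zero]

theorem fixed_eq {u : chevE6.Idx → K}
    (h : ∀ M ∈ [m_b, m_c, m_d, m_e, m_f, m_g, m_h], T M *ᵥ u = u) :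
    ∃ l : K, u = l • vecV w v0 := by
  have hl := len_ok
  simp only [Bool.and_eq_true, List.all_eq_true, decide_eq_true_eq] at hl
  obtain ⟨⟨⟨hg, hL⟩, -⟩, hp⟩ := hl
  have hm : ∀ x : Gen, (mg x).length = 78 := fun x => Nat.eq_of_beq_eq_true (hg x (mem_genList x))
  have hz := (certSum_apply w hw u Ls [m_b, m_c, m_d, m_e, m_f, m_g, m_h]
    (fun L hL' => Nat.eq_of_beq_eq_true (hL L hL')) (fun M hM => ⟨by
      simp only [List.mem_cons, List.not_mem_nil, or_false] at hM
      rcases hM with rfl | rfl | rfl | rfl | rfl | rfl | rfl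
      exacts [hm .b, hm .c, hm .d, hm .e, hm .f, hm .g, hm .h], h M hM⟩)).2
  rw [eqP_iff.mp cert_ok] at hz
  obtain ⟨p, hp'⟩ := exists_enc hp
  refine ⟨u p, funext fun row => ?_⟩
  have hrow := congrFun hz row
  have hlt := enc_lt' row
  have e : ∀ col, T projP row col = (if row = col then 1 else 0) +
      (if col = p then vecV w v0 row else 0) := by
    intro col
    have hc := enc_lt' col
    rw [toMat, projP, List.getD_eq_getElem _ _ (by simpa using hc), List.getElem_map,
      List.getElem_range, val_vadd, val_mon, cv_one, val_pick]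
    simp only [(enc_injective chevE6).eq_iff]
    congr 1
    by_cases hcp : col = p
    · rw [if_pos hcp, hcp, hp', Nat.beq_refl]; simp [vecV]
    · rw [if_neg hcp]
      have : Nat.beq (enc chevE6 col) piv = false := by
        refine Bool.eq_false_iff.mpr fun hb => hcp ?_
        exact enc_injective chevE6 ((Nat.eq_of_beq_eq_true hb).trans hp'.symm)
      simp [this]
  simp only [Matrix.mulVec, dotProduct, e, add_mul, Finset.sum_add_distrib, ite_mul, one_mul,
    zero_mul, Finset.sum_ite_eq, Finset.sum_ite_eq', Finset.mem_univ, if_true, Pi.zero_apply]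
    at hrow
  rw [Pi.smul_apply, smul_eq_mul, mul_comm]
  exact CharTwo.add_eq_zero.mp hrow

theorem scalar_of_commute (C : Matrix chevE6.Idx chevE6.Idx K)
    (hC : ∀ x : Gen, x ≠ .a → C * T (mg x) = T (mg x) * C) :
    ∃ l : K, C = l • (1 : Matrix chevE6.Idx chevE6.Idx K) := by
  have hm : ∀ x : Gen, (mg x).length = 78 := len_mg
  have h0 : ∀ M ∈ [m_b, m_c, m_d, m_e, m_f, m_g, m_h],
      T M *ᵥ (C *ᵥ vecV w v0) = C *ᵥ vecV w v0 := by
    intro M hM
    have hv := v0_ok
    simp only [List.all_eq_true, Bool.and_eq_true] at hv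
    obtain ⟨ha, hb⟩ := hv M hM
    have e : app M v0.1 v0.2 = v0 :=
      Prod.ext (Nat.eq_of_beq_eq_true ha) (Nat.eq_of_beq_eq_true hb)
    obtain ⟨x, hxa, rfl⟩ : ∃ x, x ≠ .a ∧ mg x = M := by
      simp only [List.mem_cons, List.not_mem_nil, or_false] at hM
      rcases hM with rfl | rfl | rfl | rfl | rfl | rfl | rfl
      exacts [⟨.b, nofun, rfl⟩, ⟨.c, nofun, rfl⟩, ⟨.d, nofun, rfl⟩, ⟨.e, nofun, rfl⟩,
        ⟨.f, nofun, rfl⟩, ⟨.g, nofun, rfl⟩, ⟨.h, nofun, rfl⟩]
    rw [Matrix.mulVec_mulVec, ← hC x hxa, ← Matrix.mulVec_mulVec, ← toMat_vec w hw (hm x), e]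
  obtain ⟨l, hl⟩ := fixed_eq w hw h0
  have hs := spin_ok
  simp only [Bool.and_eq_true, treeOk, List.all_eq_true, List.mem_range, decide_eq_true_eq] at hs
  obtain ⟨⟨⟨s1, s2⟩, ⟨⟨⟨-, lB⟩, lI⟩, hT⟩⟩, hI⟩ := hs
  have col : ∀ j < 78, C *ᵥ vecV w (spinB.getD j (0, 0)) = l • vecV w (spinB.getD j (0, 0)) := by
    intro j
    induction j using Nat.strong_induction_on with
    | _ j ih =>
      intro hj
      rcases Nat.eq_zero_or_eq_succ_pred j with rfl | hj'
      · rw [show spinB.getD 0 (0, 0) = v0 from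
          Prod.ext (Nat.eq_of_beq_eq_true s1) (Nat.eq_of_beq_eq_true s2)]
        exact hl
      · set i := j.pred
        rw [hj'] at hj ⊢
        obtain ⟨⟨hp1, hp2, hp3⟩, hu⟩ := hT i (by omega)
        have hne : genList.getD (tree.getD i (0, 0)).2 .a ≠ .a :=
          (by decide : ∀ k < 9, 1 ≤ k → genList.getD k Gen.a ≠ .a) _ hp2 hp3
        have e : spinB.getD (i + 1) (0, 0) =
            app (mg (genList.getD (tree.getD i (0, 0)).2 .a))
              (spinB.getD (tree.getD i (0, 0)).1 (0, 0)).1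
              (spinB.getD (tree.getD i (0, 0)).1 (0, 0)).2 :=
          (Prod.ext (Nat.eq_of_beq_eq_true hu.1) (Nat.eq_of_beq_eq_true hu.2)).symm
        rw [e, toMat_vec w hw (hm _), Matrix.mulVec_mulVec, hC _ hne, ← Matrix.mulVec_mulVec,
          ih _ (by omega) (by omega), Matrix.mulVec_smul]
  have hB : C * T spinB = l • T spinB := by
    ext row c
    have := congrFun (col (enc chevE6 c) (enc_lt' c)) row
    rw [Pi.smul_apply, smul_eq_mul] at this
    simp only [Matrix.mul_apply, Matrix.smul_apply, smul_eq_mul]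
    exact this
  have hId : T spinB * T spinI = 1 := by
    rw [← toMat_mul' w hw (Nat.eq_of_beq_eq_true lB) (Nat.eq_of_beq_eq_true lI), eqP_iff.mp hI,
      toMat_id' w]
  refine ⟨l, ?_⟩
  calc C = C * T spinB * T spinI := by rw [mul_assoc, hId, mul_one]
    _ = _ := by rw [hB, smul_mul_assoc, hId]

end CfsgLib.Fi22Twist
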