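import Cfsg.Agent.Fi22Twist.Defs

/-! Kernel checks. -/

set_option autoImplicit false
set_option maxRecDepth 100000

namespace CfsgLib.Fi22Twist
open Cfsg.Lie

theorem len_ok : ((genList.all fun x => Nat.beq (mg x).length 78) &&
    (Ls.all fun L => Nat.beq L.length 78) && Nat.beq Ls.length 7 && decide (piv < 78)) = true := by
  decide +kernel

theorem cert_ok : eqP (certSum Ls [m_b, m_c, m_d, m_e, m_f, m_g, m_h]) projP = true := by
  decide +kernel

theorem v0_ok : ([m_b, m_c, m_d, m_e, m_f, m_g, m_h].all fun M =>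
    Nat.beq (app M v0.1 v0.2).1 v0.1 && Nat.beq (app M v0.1 v0.2).2 v0.2) = true := by
  decide +kernel

theorem spin_ok : (Nat.beq (spinB.getD 0 (0, 0)).1 v0.1 && Nat.beq (spinB.getD 0 (0, 0)).2 v0.2 &&
    treeOk && eqP (mulP spinB spinI) (idP 78)) = true := by decide +kernel

end CfsgLib.Fi22Twist
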