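import Cfsg.Agent.Fi22Twist.Defs

/-! Kernel checks. -/

set_option autoImplicit false
set_option maxRecDepth 100000

namespace CfsgLib.Fi22Twist
open Cfsg.Lie

theorem row_ok_d : rowOk .d = true := by decide +kernel
theorem row_ok_e : rowOk .e = true := by decide +kernel
theorem row_ok_f : rowOk .f = true := by decide +kernel
theorem row_ok_g : rowOk .g = true := by decide +kernel
theorem row_ok_h : rowOk .h = true := by decide +kernel
theorem row_ok_i : rowOk .i = true := by decide +kernel

end CfsgLib.Fi22Twist
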