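import Cfsg.Prelude.Def_Spor_Fi22
import Cfsg.Agent.TwistedLie.E6Tw
import Cfsg.Agent.Fi22Twist.Data
import Cfsg.Agent.Fi22Twist.CentData

/-!
The nine generators and the Boolean checks on them.
-/

set_option autoImplicit false

namespace CfsgLib.Fi22Twist

open Cfsg.Lie

/-- The bases of the conjugates. -/
def baseW (b a : ℕ) : List (ℕ × ℕ) :=
  match b with
  | 0 => [(46, 1)]
  | 1 => [(25, 1)]
  | 2 => [(39, 1)]
  | 3 => [(32, 1)]
  | 4 => [(56, a), (36, cmul a a)]
  | 5 => [(15, a), (35, cmul a a)]
  | 6 => [(42, a), (37, cmul a a)]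
  | _ => [(29, a), (34, cmul a a)]

/-- The root word of a conjugate. -/
def atomW (e : Atom) : List (ℕ × ℕ) :=
  (baseW e.2.1 e.2.2).map fun x => (TwistedLie.wL chevE6 (e.1.flatMap TwistedLie.E6.blkN) x.1, x.2)

/-- The root word of a product of conjugates. -/
def atomsW (A : List Atom) : List (ℕ × ℕ) := A.flatMap atomW

/-- The atoms of the generators. -/
def atg : Cfsg.Spor.Fi22.Gen → List Atom
  | .a => at_a | .b => at_b | .c => at_c | .d => at_d | .e => at_e
  | .f => at_f | .g => at_g | .h => at_h | .i => at_i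

/-- The matrices of the generators. -/
def mg : Cfsg.Spor.Fi22.Gen → List V
  | .a => m_a | .b => m_b | .c => m_c | .d => m_d | .e => m_e
  | .f => m_f | .g => m_g | .h => m_h | .i => m_i

/-- All generators. -/
def genList : List Cfsg.Spor.Fi22.Gen := [.a, .b, .c, .d, .e, .f, .g, .h, .i]

theorem mem_genList (x : Cfsg.Spor.Fi22.Gen) : x ∈ genList := by cases x <;> simp [genList]

/-- A generator is the product of its atoms. -/
def genOk (A : List Atom) (M : List V) : Bool :=
  (A.all fun e => decide (e.2.2 < 4)) &&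
    ((atomsW A).all fun x => decide (x.1 < 72) && decide (x.2 < 4)) &&
    eqP (matW chevE6 (atomsW A)) M

/-- The Coxeter relation between two generators. -/
def coxOk (X Y : List V) : ℕ → Bool
  | 1 => eqP (mulP X X) (idP 78)
  | 2 => eqP (mulP X Y) (mulP Y X)
  | 3 => eqP (mulP X (mulP Y X)) (mulP Y (mulP X Y))
  | _ => false

/-- The index of a generator. -/
def gi : Cfsg.Spor.Fi22.Gen → ℕ
  | .a => 0 | .b => 1 | .c => 2 | .d => 3 | .e => 4 | .f => 5 | .g => 6 | .h => 7 | .i => 8

/-- The relations of a generator with the later ones. -/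
def rowOk (x : Cfsg.Spor.Fi22.Gen) : Bool :=
  genList.all fun y => decide (gi y < gi x) ||
    coxOk (mg x) (mg y) (Cfsg.Spor.coxLabel Cfsg.Spor.Fi22.edges x y)

/-- The product of a word in the generators. -/
def prodP (w : List Cfsg.Spor.Fi22.Gen) : List V := w.foldr (fun x P => mulP (mg x) P) (idP 78)

/-- Sum. -/
def addP (A B : List V) : List V := (A.zip B).map fun p => vadd p.1 p.2

/-- The sum of the `L (M + 1)`. -/
def certSum : List (List V) → List (List V) → List V
  | L :: Ls, M :: Ms => addP (mulP L (addP M (idP 78))) (certSum Ls Ms)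
  | _, _ => List.replicate 78 (0, 0)

/-- The projection along the fixed vector. -/
def projP : List V :=
  (List.range 78).map fun i => vadd (mon i 1) (pick (Nat.beq i piv) v0)

/-- The spanning tree check. -/
def treeOk : Bool :=
  Nat.beq tree.length 77 && Nat.beq spinB.length 78 && Nat.beq spinI.length 78 &&
    (List.range 77).all fun j =>
      let e := tree.getD j (0, 0)
      decide (e.1 ≤ j) && (decide (e.2 < 9) && decide (1 ≤ e.2)) &&
        (let v := spinB.getD e.1 (0, 0)
         let u := app (mg (genList.getD e.2 .a)) v.1 v.2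
         Nat.beq u.1 (spinB.getD (j + 1) (0, 0)).1 && Nat.beq u.2 (spinB.getD (j + 1) (0, 0)).2)

end CfsgLib.Fi22Twist
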