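import Cfsg.Agent.Fi22Twist.Defs

/-! Kernel checks. -/

set_option autoImplicit false
set_option maxRecDepth 100000

namespace CfsgLib.Fi22Twist
open Cfsg.Lie

theorem sp_1 : eqP (prodP [.d, .c, .b, .d, .e, .f, .d, .h, .i]) psp_1 = true := by decide +kernel
theorem ab_1 : eqP (prodP [.a, .b, .c, .d, .e, .f, .h]) pab_1 = true := by decide +kernel
theorem bc_1 : eqP (prodP [.b, .c, .d, .e, .f, .g, .h]) pbc_1 = true := by decide +kernel

/-- The squarings of a product and the final relation. -/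
def powOk (P1 P2 P4 P8 Q : List V) : Bool :=
  eqP (mulP P1 P1) P2 && eqP (mulP P2 P2) P4 && eqP (mulP P4 P4) P8 && eqP (mulP P8 Q) (idP 78)

theorem sp_pow : powOk psp_1 psp_2 psp_4 psp_8 psp_2 = true := by decide +kernel
theorem ab_pow : powOk pab_1 pab_2 pab_4 pab_8 pab_1 = true := by decide +kernel
theorem bc_pow : powOk pbc_1 pbc_2 pbc_4 pbc_8 pbc_1 = true := by decide +kernel

end CfsgLib.Fi22Twist
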