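import Cfsg.Agent.Fi22Twist.Defs

/-! Kernel checks. -/

set_option autoImplicit false
set_option maxRecDepth 100000

namespace CfsgLib.Fi22Twist
open Cfsg.Lie

theorem gen_ok_a : genOk at_a m_a = true := by decide +kernel
theorem gen_ok_b : genOk at_b m_b = true := by decide +kernel
theorem gen_ok_c : genOk at_c m_c = true := by decide +kernel

end CfsgLib.Fi22Twist
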