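import Cfsg.Agent.Fi22Twist.Defs

/-! Kernel checks. -/

set_option autoImplicit false
set_option maxRecDepth 100000

namespace CfsgLib.Fi22Twist
open Cfsg.Lie

theorem gen_ok_d : genOk at_d m_d = true := by decide +kernel
theorem gen_ok_e : genOk at_e m_e = true := by decide +kernel
theorem gen_ok_f : genOk at_f m_f = true := by decide +kernel
theorem gen_ok_g : genOk at_g m_g = true := by decide +kernel
theorem gen_ok_h : genOk at_h m_h = true := by decide +kernel
theorem gen_ok_i : genOk at_i m_i = true := by decide +kernel

end CfsgLib.Fi22Twist
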