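import Cfsg.Agent.Fi22Twist.Defs
import Cfsg.Agent.TwistedLie.E6Facts

/-!
The scalars, and membership of the nine generators in `²E₆(2)`.
-/

set_option autoImplicit false

namespace CfsgLib.Fi22Twist

open Cfsg.Lie CfsgLib.Chevalley
open scoped Matrix

local notation "S" => sysE6

variable {K : Type*} [Field K]

theorem exists_omega [Fintype K] (hK : Fintype.card K = 4) :
    CharP K 2 ∧ ∃ w : K, w * w = w + 1 := by
  have hc : CharP K 2 := by
    obtain ⟨p, hp⟩ := CharP.exists K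
    have hpp := CharP.char_is_prime K p
    haveI := Fact.mk hpp
    obtain ⟨n, -, hn⟩ := FiniteField.card K p
    rw [hK] at hn
    have : p ∣ 4 := hn ▸ dvd_pow_self p n.ne_zero
    have hp4 : p ≤ 4 := Nat.le_of_dvd (by norm_num) this
    have := hpp.two_le
    obtain rfl : p = 2 := by interval_cases p <;> norm_num at *
    exact hp
  refine ⟨hc, ?_⟩
  classical
  obtain ⟨u, hu⟩ : ∃ u : Kˣ, u ≠ 1 := by
    have : Nontrivial Kˣ := Fintype.one_lt_card_iff_nontrivial.mp (by
      rw [Fintype.card_units, hK]; norm_num)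
    exact exists_ne 1
  have h3 : u ^ 3 = 1 := by
    have := pow_card_eq_one (x := u)
    rwa [Fintype.card_units, hK] at this
  refine ⟨u, ?_⟩
  have h : ((u : K) - 1) * ((u : K) * u + u + 1) = 0 := by
    have h' : (u : K) ^ 3 = 1 := by rw [← Units.val_pow_eq_pow_val, h3, Units.val_one]
    linear_combination h'
  have hne : (u : K) - 1 ≠ 0 := fun h0 => hu (Units.ext (sub_eq_zero.mp h0))
  have h' := (mul_eq_zero.mp h).resolve_left hne
  haveI := hc
  rw [add_assoc] at h'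
  exact CharTwo.add_eq_zero.mp h'

/-- The element of a coded word. -/
noncomputable def ev (w : K) (L : List (ℕ × ℕ)) : GL chevE6.Idx K :=
  Sys.wG S K (L.map fun e => (e.1, cv w e.2))

theorem ev_append (w : K) (A B : List (ℕ × ℕ)) : ev w (A ++ B) = ev w A * ev w B := by
  rw [ev, List.map_append, TwistedLie.wG_append]; rfl

variable [CharP K 2] (w : K) (hw : w * w = w + 1)
include hw

theorem toMat_ev {L : List (ℕ × ℕ)} (h : ∀ e ∈ L, e.1 < chevE6.nroots ∧ e.2 < 4) :
    (ev w L : Matrix chevE6.Idx chevE6.Idx K) = toMat chevE6 w (matW chevE6 L) := by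
  rw [toMat_matW chevE6 w hw S L h, ev, Sys.wG_val]

theorem cv_sq {a : ℕ} (ha : a < 4) : cv w (cmul a a) = cv w a ^ 2 := by
  rw [cv_cmul w hw ha ha, sq]

theorem ev_base_mem (b : ℕ) {a : ℕ} (ha : a < 4) :
    ev w (baseW b a) ∈ twistedE6 K 2 := by
  have h1 : (1 : K) ^ 2 = 1 := one_pow 2
  unfold baseW
  split <;> refine TwistedLie.wG_mem_gen S K ?_ <;>
    simp only [List.map_cons, List.map_nil, cv_one, cv_sq w hw ha]
  · exact Or.inl ⟨1, h1, 46, by simp [e6p2], rfl⟩
  · exact Or.inl ⟨1, h1, 25, by simp [e6m2], rfl⟩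
  · exact Or.inl ⟨1, h1, 39, by simp [e6p4], rfl⟩
  · exact Or.inl ⟨1, h1, 32, by simp [e6m4], rfl⟩
  · exact Or.inr ⟨cv w a, (e6p1, e6p6), by simp, by simp [e6p1, e6p6]⟩
  · exact Or.inr ⟨cv w a, (e6m1, e6m6), by simp, by simp [e6m1, e6m6]⟩
  · exact Or.inr ⟨cv w a, (e6p3, e6p5), by simp, by simp [e6p3, e6p5]⟩
  · exact Or.inr ⟨cv w a, (e6m3, e6m5), by simp, by simp [e6m3, e6m5]⟩

omit hw in
theorem ev_conj {N : List ℕ} (hN : ∀ i ∈ N, i < chevE6.rank) :
    ∀ {L : List (ℕ × ℕ)}, (∀ e ∈ L, e.1 < chevE6.nroots) →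
      ev w (L.map fun x => (TwistedLie.wL chevE6 N x.1, x.2)) =
        TwistedLie.nL S K N * ev w L * (TwistedLie.nL S K N)⁻¹
  | [], _ => by simp [ev, Sys.wG]
  | e :: L, h => by
    rw [List.forall_mem_cons] at h
    obtain ⟨u, hu, he⟩ := TwistedLie.nL_conj_xG S K hN h.1 (cv w e.2)
    have hu' : u = cv w e.2 := by
      rcases hu with hu | hu
      · exact hu
      · rw [hu, CharTwo.neg_eq]
    rw [hu'] at he
    have hh : ∀ (M : List (ℕ × ℕ)) (x : ℕ × ℕ), ev w (x :: M) =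
        Sys.xG S K x.1 (cv w x.2) * ev w M := fun M x => by
      simp [ev, Sys.wG]
    rw [List.map_cons, hh, hh, ev_conj hN h.2]
    dsimp only
    rw [eq_mul_inv_iff_mul_eq.mpr he.symm]
    group

variable [Fintype K] (hK : Fintype.card K = 4)
include hK

theorem ev_atom_mem (e : Atom) (ha : e.2.2 < 4) : ev w (atomW e) ∈ twistedE6 K 2 := by
  have hN : ∀ i ∈ e.1.flatMap TwistedLie.E6.blkN, i < chevE6.rank := fun i hi => by
    obtain ⟨j, -, hj⟩ := List.mem_flatMap.mp hi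
    exact TwistedLie.E6.blkN_lt j i hj
  have hroots : ∀ x ∈ baseW e.2.1 e.2.2, x.1 < chevE6.nroots := by
    unfold baseW
    split <;> simp [show chevE6.nroots = 72 from rfl]
  have hn := TwistedLie.E6.nL_word_mem (K := K) (q := 2) ⟨2, 1, Nat.prime_two.prime, one_pos, rfl⟩
    (by rw [hK]; norm_num) e.1
  rw [atomW, ev_conj w hN hroots]
  exact mul_mem (mul_mem hn (ev_base_mem w hw _ ha)) (inv_mem hn)

theorem ev_atoms_mem : ∀ A : List Atom, (∀ e ∈ A, e.2.2 < 4) →
    ev w (atomsW A) ∈ twistedE6 K 2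
  | [], _ => by simp [atomsW, ev, Sys.wG, one_mem]
  | e :: A, h => by
    rw [List.forall_mem_cons] at h
    rw [atomsW, List.flatMap_cons, ev_append]
    exact mul_mem (ev_atom_mem w hw hK e h.1) (ev_atoms_mem A h.2)

end CfsgLib.Fi22Twist
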