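import Cfsg.Agent.Fi22Twist.Group
import Cfsg.Agent.Fi22Twist.GenChecks0
import Cfsg.Agent.Fi22Twist.GenChecks1
import Cfsg.Agent.Fi22Twist.CoxChecks0
import Cfsg.Agent.Fi22Twist.CoxChecks1
import Cfsg.Agent.Fi22Twist.ExtraChecks
import Cfsg.Agent.Fi22Twist.CentChecks
import Cfsg.Agent.CosetEnum.Fi22.Simple

/-!
The embedding of Fi22 in `²E₆(2)`.
-/

set_option autoImplicit false

namespace CfsgLib.Fi22Twist

open Cfsg.Lie CfsgLib.Chevalley
open scoped Matrix
open Cfsg.Spor.Fi22 (Gen)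

local notation "S" => sysE6

variable {K : Type*} [Field K]

/-- The image of a generator. -/
noncomputable def gv (w : K) (x : Gen) : GL chevE6.Idx K := ev w (atomsW (atg x))

theorem gen_ok (x : Gen) : genOk (atg x) (mg x) = true := by
  cases x
  exacts [gen_ok_a, gen_ok_b, gen_ok_c, gen_ok_d, gen_ok_e, gen_ok_f, gen_ok_g, gen_ok_h, gen_ok_i]

theorem gen_spec (x : Gen) : (∀ e ∈ atg x, e.2.2 < 4) ∧
    (∀ e ∈ atomsW (atg x), e.1 < chevE6.nroots ∧ e.2 < 4) ∧
    matW chevE6 (atomsW (atg x)) = mg x := by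
  have h := gen_ok x
  simp only [genOk, Bool.and_eq_true, List.all_eq_true, decide_eq_true_eq, eqP_iff] at h
  exact ⟨h.1.1, h.1.2, h.2⟩

theorem len_mg (x : Gen) : (mg x).length = chevE6.rank + chevE6.nroots := by
  have h := len_ok
  simp only [Bool.and_eq_true, List.all_eq_true] at h
  exact Nat.eq_of_beq_eq_true (h.1.1.1 x (mem_genList x))

theorem size_eq : chevE6.rank + chevE6.nroots = 78 := rfl

variable [CharP K 2] (w : K) (hw : w * w = w + 1)
include hw

local notation "T" => toMat chevE6 w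

theorem gv_val (x : Gen) : (gv w x : Matrix chevE6.Idx chevE6.Idx K) = T (mg x) := by
  rw [gv, toMat_ev w hw (gen_spec x).2.1, (gen_spec x).2.2]

theorem toMat_mul' {A B : List V} (hA : A.length = 78) (hB : B.length = 78) :
    T (mulP A B) = T A * T B := toMat_mulP chevE6 w hw hA hB

omit hw in
theorem toMat_id' : T (idP 78) = 1 := toMat_idP chevE6 w

theorem cox_holds {x y : Gen} {m : ℕ} (hm : coxOk (mg x) (mg y) m = true) :
    (m = 1 → gv w x * gv w x = 1) ∧
    (m = 2 → gv w x * gv w y = gv w y * gv w x) ∧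
    (m = 3 → gv w x * gv w y * gv w x = gv w y * gv w x * gv w y) := by
  have lx := len_mg x
  have ly := len_mg y
  rw [size_eq] at lx ly
  refine ⟨?_, ?_, ?_⟩ <;> rintro rfl <;> simp only [coxOk, eqP_iff] at hm <;> apply Units.ext <;>
    simp only [Units.val_mul, gv_val w hw, Units.val_one]
  · rw [← toMat_mul' w hw lx lx, hm, toMat_id' w]
  · rw [← toMat_mul' w hw lx ly, hm, toMat_mul' w hw ly lx]
  · rw [mul_assoc, mul_assoc, ← toMat_mul' w hw ly lx, ← toMat_mul' w hw lx (by simp [mulP, lx]),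
      hm, toMat_mul' w hw ly (by simp [mulP, ly]), toMat_mul' w hw lx ly]

theorem prod_val : ∀ L : List Gen, (prodP L).length = 78 ∧
    ((L.map (gv w)).prod : GL chevE6.Idx K).val = T (prodP L)
  | [] => ⟨by simp [prodP, idP], by simp [prodP, toMat_id' w]⟩
  | x :: L => by
    obtain ⟨hl, h⟩ := prod_val L
    have lx := len_mg x
    rw [size_eq] at lx
    have e : prodP (x :: L) = mulP (mg x) (prodP L) := rfl
    refine ⟨by rw [e, length_mulP]; exact hl, ?_⟩
    rw [e, toMat_mul' w hw lx hl, ← h, List.map_cons, List.prod_cons, Units.val_mul, gv_val w hw]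

theorem pow_holds {P : GL chevE6.Idx K} {P1 P2 P4 P8 Q : List V} (hl : P1.length = 78)
    (hP : P.val = T P1) (h : powOk P1 P2 P4 P8 Q = true) :
    (Q = P1 → P ^ 9 = 1) ∧ (Q = P2 → P ^ 10 = 1) := by
  simp only [powOk, Bool.and_eq_true, eqP_iff] at h
  obtain ⟨⟨⟨h2, h4⟩, h8⟩, hq⟩ := h
  have l2 : P2.length = 78 := by rw [← h2, length_mulP]; exact hl
  have l4 : P4.length = 78 := by rw [← h4, length_mulP]; exact l2
  have l8 : P8.length = 78 := by rw [← h8, length_mulP]; exact l4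
  have e2 : (P ^ 2).val = T P2 := by rw [pow_two, Units.val_mul, hP, ← toMat_mul' w hw hl hl, h2]
  have e4 : (P ^ 4).val = T P4 := by
    rw [show P ^ 4 = P ^ 2 * P ^ 2 by group, Units.val_mul, e2, ← toMat_mul' w hw l2 l2, h4]
  have e8 : (P ^ 8).val = T P8 := by
    rw [show P ^ 8 = P ^ 4 * P ^ 4 by group, Units.val_mul, e4, ← toMat_mul' w hw l4 l4, h8]
  constructor
  · rintro rfl
    apply Units.ext
    rw [show P ^ 9 = P ^ 8 * P by group, Units.val_mul, e8, hP, ← toMat_mul' w hw l8 hl, hq,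
      toMat_id' w, Units.val_one]
  · rintro rfl
    apply Units.ext
    rw [show P ^ 10 = P ^ 8 * P ^ 2 by group, Units.val_mul, e8, e2, ← toMat_mul' w hw l8 l2, hq,
      toMat_id' w, Units.val_one]

theorem word_pow {L : List Gen} {P1 P2 P4 P8 Q : List V} (h1 : eqP (prodP L) P1 = true)
    (h : powOk P1 P2 P4 P8 Q = true) :
    (Q = P1 → (L.map (gv w)).prod ^ 9 = 1) ∧ (Q = P2 → (L.map (gv w)).prod ^ 10 = 1) := by
  rw [eqP_iff] at h1
  obtain ⟨hl, hv⟩ := prod_val w hw L
  rw [h1] at hl hv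
  exact pow_holds w hw hl hv h

omit hw in
theorem row_ok (x : Gen) : rowOk x = true := by
  cases x
  exacts [row_ok_a, row_ok_b, row_ok_c, row_ok_d, row_ok_e, row_ok_f, row_ok_g, row_ok_h, row_ok_i]

omit hw in
theorem cox_check {x y : Gen} (h : gi x ≤ gi y) :
    coxOk (mg x) (mg y) (Cfsg.Spor.coxLabel Cfsg.Spor.Fi22.edges x y) = true := by
  have h' := row_ok x
  simp only [rowOk, List.all_eq_true, Bool.or_eq_true, decide_eq_true_eq] at h'
  exact (h' y (mem_genList y)).resolve_left (not_lt.mpr h)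

omit hw in
theorem label_facts (x y : Gen) :
    Cfsg.Spor.coxLabel Cfsg.Spor.Fi22.edges x y ∈ [1, 2, 3] ∧
    (Cfsg.Spor.coxLabel Cfsg.Spor.Fi22.edges x y = 1 → x = y) ∧
    Cfsg.Spor.coxLabel Cfsg.Spor.Fi22.edges y x = Cfsg.Spor.coxLabel Cfsg.Spor.Fi22.edges x y := by
  cases x <;> cases y <;> decide +kernel

theorem gv_sq (x : Gen) : gv w x * gv w x = 1 :=
  (cox_holds w hw (cox_check (le_refl (gi x)))).1 (by simp [Cfsg.Spor.coxLabel])

theorem gv_cox (x y : Gen) :
    (gv w x * gv w y) ^ Cfsg.Spor.coxLabel Cfsg.Spor.Fi22.edges x y = 1 := by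
  obtain ⟨hm, h1, hs⟩ := label_facts x y
  have hx := gv_sq w hw x
  have hy := gv_sq w hw y
  have key : (Cfsg.Spor.coxLabel Cfsg.Spor.Fi22.edges x y = 2 →
      gv w x * gv w y = gv w y * gv w x) ∧
      (Cfsg.Spor.coxLabel Cfsg.Spor.Fi22.edges x y = 3 →
      gv w x * gv w y * gv w x = gv w y * gv w x * gv w y) := by
    rcases le_total (gi x) (gi y) with h | h
    · exact (cox_holds w hw (cox_check h)).2
    · have := (cox_holds w hw (cox_check h)).2
      rw [hs] at this
      exact ⟨fun e => (this.1 e).symm, fun e => (this.2 e).symm⟩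
  simp only [List.mem_cons, List.not_mem_nil, or_false] at hm
  rcases hm with e | e | e <;> rw [e]
  · rw [h1 e, pow_one, hy]
  · have c : Commute (gv w x) (gv w y) := key.1 e
    rw [c.mul_pow, pow_two, pow_two, hx, hy, one_mul]
  · calc (gv w x * gv w y) ^ 3
        = (gv w x * gv w y * gv w x) * (gv w y * gv w x * gv w y) := by
          simp only [pow_succ, pow_zero, one_mul, mul_assoc]
      _ = gv w y * gv w x * gv w y * (gv w y * gv w x * gv w y) := by rw [key.2 e]
      _ = gv w y * gv w x * (gv w y * gv w y) * gv w x * gv w y := by group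
      _ = gv w y * (gv w x * gv w x) * gv w y := by rw [hy]; group
      _ = 1 := by rw [hx, mul_one, hy]

theorem relators_hold : ∀ r ∈ Cfsg.Spor.coxRelators Cfsg.Spor.Fi22.edges ∪
    {r | r ∈ Cfsg.Spor.Fi22.extra}, FreeGroup.lift (gv w) r = 1 := by
  rintro r (⟨x, -, y, -, rfl⟩ | hr)
  · rw [map_pow, map_mul, FreeGroup.lift_apply_of, FreeGroup.lift_apply_of]
    exact gv_cox w hw x y
  · simp only [Cfsg.Spor.Fi22.extra, Set.mem_ofPred_eq, List.mem_cons, List.not_mem_nil,
      or_false] at hr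
    rcases hr with rfl | rfl | rfl <;>
      simp only [Cfsg.Spor.Fi22.a, Cfsg.Spor.Fi22.b, Cfsg.Spor.Fi22.c, Cfsg.Spor.Fi22.d,
        Cfsg.Spor.Fi22.e, Cfsg.Spor.Fi22.f, Cfsg.Spor.Fi22.g, Cfsg.Spor.Fi22.h, Cfsg.Spor.Fi22.i,
        map_pow, map_mul, FreeGroup.lift_apply_of]
    · simpa [mul_assoc] using (word_pow w hw sp_1 sp_pow).2 rfl
    · simpa [mul_assoc] using (word_pow w hw ab_1 ab_pow).1 rfl
    · simpa [mul_assoc] using (word_pow w hw bc_1 bc_pow).1 rfl

/-- The homomorphism. -/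
noncomputable def emb : Cfsg.Spor.Fi22 →* GL chevE6.Idx K :=
  PresentedGroup.toGroup (relators_hold w hw)

theorem emb_of (x : Gen) : emb w hw (PresentedGroup.of x) = gv w x := PresentedGroup.toGroup.of _

variable [Fintype K] (hK : Fintype.card K = 4)
include hK

theorem emb_mem (g : Cfsg.Spor.Fi22) : emb w hw g ∈ twistedE6 K 2 := by
  have h : g ∈ (twistedE6 K 2).comap (emb w hw) := by
    have hg : g ∈ Subgroup.closure (Set.range (PresentedGroup.of (rels :=
        Cfsg.Spor.coxRelators Cfsg.Spor.Fi22.edges ∪ {r | r ∈ Cfsg.Spor.Fi22.extra}))) := by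
      rw [PresentedGroup.closure_range_of]; trivial
    refine (Subgroup.closure_le _).mpr ?_ hg
    rintro _ ⟨x, rfl⟩
    show emb w hw (PresentedGroup.of x) ∈ twistedE6 K 2
    rw [emb_of]
    exact ev_atoms_mem w hw hK _ (gen_spec x).1
  exact h

end CfsgLib.Fi22Twist
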