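import Cfsg.Agent.Fi22Twist.Cent
import Cfsg.Agent.Fi22Out.Main
import Cfsg.Agent.TwistedLie.E6Torus
import Cfsg.Agent.TwistedAut.Normalize

/-!
Three classes of Fi22 in `²E₆(2)`, permuted by the diagonal automorphisms.
-/

set_option autoImplicit false

namespace CfsgLib.Fi22Twist

open Cfsg.Lie CfsgLib.Chevalley
open scoped Matrix
open Cfsg.Spor.Fi22 (Gen)

local notation "S" => sysE6

variable {K : Type*} [Field K]

/-- Values on the fundamental roots. -/
def dval (u : Kˣ) (j : ℕ) : Kˣ := if j = 0 then u else if j = 5 then u⁻¹ else 1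

/-- The character. -/
noncomputable def chi (u : Kˣ) (s : ℕ) : Kˣ :=
  ∏ j ∈ Finset.range chevE6.rank, dval u j ^ Sys.vec S j s

theorem chi_mul (u v : Kˣ) (s : ℕ) : chi (u * v) s = chi u s * chi v s := by
  rw [chi, chi, chi, ← Finset.prod_mul_distrib]
  refine Finset.prod_congr rfl fun j _ => ?_
  rw [← mul_zpow]
  congr 1
  simp only [dval]
  split_ifs <;> simp [mul_comm]

/-- The diagonal elements. -/
noncomputable def del : Kˣ →* GL chevE6.Idx K where
  toFun u := dgG chevE6 (chi u)
  map_one' := by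
    apply Units.ext
    rw [dgG_val, Units.val_one]
    refine dg_one fun s _ => ?_
    simp [chi, dval]
  map_mul' u v := by
    apply Units.ext
    rw [dgG_val, Units.val_mul, dgG_val, dgG_val, dg_mul]
    exact dg_congr fun s _ => by rw [chi_mul, Units.val_mul]

theorem del_x (u : Kˣ) {r : ℕ} (hr : r < chevE6.nroots) (t : K) :
    del u * Sys.xG S K r t * (del u)⁻¹ = Sys.xG S K r ((chi u r : K) * t) := by
  rw [mul_inv_eq_iff_eq_mul]
  apply Units.ext
  rw [Units.val_mul, Units.val_mul, Sys.xG_val, Sys.xG_val]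
  show (dgG chevE6 (chi u) : Matrix chevE6.Idx chevE6.Idx K) * _ = _ * (dgG chevE6 (chi u)).val
  rw [dgG_val]
  exact Sys.dg_x S (Sys.char_isChar S (dval u)) hr t

theorem chi_simple (u : Kˣ) {i : ℕ} (hi : i < chevE6.rank) :
    chi u (chevE6.simple i) = dval u i := by
  rw [chi, Finset.prod_eq_single i]
  · rw [Sys.vec_simple S i hi i hi, if_pos rfl, zpow_one]
  · intro j hj hne
    rw [Sys.vec_simple S i hi j (Finset.mem_range.mp hj), if_neg hne, zpow_zero]
  · intro h; simp [hi] at h

theorem chi_neg (u : Kˣ) {i : ℕ} (hi : i < chevE6.rank) :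
    chi u (chevE6.neg (chevE6.simple i)) = (dval u i)⁻¹ := by
  rw [← chi_simple u hi, chi, chi, ← Finset.prod_inv_distrib]
  refine Finset.prod_congr rfl fun j hj => ?_
  rw [Sys.vec_neg S j (Finset.mem_range.mp hj) _ (sysE6.wf.simple_lt i hi), zpow_neg]

theorem del_wG (u : Kˣ) : ∀ {w : List (ℕ × K)}, (∀ e ∈ w, e.1 < chevE6.nroots) →
    del u * Sys.wG S K w * (del u)⁻¹ =
      Sys.wG S K (w.map fun e => (e.1, (chi u e.1 : K) * e.2))
  | [], _ => by simp [Sys.wG]
  | e :: w, h => by
    rw [List.forall_mem_cons] at h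
    have hh : ∀ (M : List (ℕ × K)) (x : ℕ × K), Sys.wG S K (x :: M) =
        Sys.xG S K x.1 x.2 * Sys.wG S K M := fun M x => by simp [Sys.wG]
    rw [List.map_cons, hh, hh, ← del_wG u h.2, ← del_x u h.1]
    group

theorem cube_one [Fintype K] (hK : Fintype.card K = 4) (u : Kˣ) : u ^ 3 = 1 := by
  classical
  have := pow_card_eq_one (x := u)
  rwa [Fintype.card_units, hK] at this

theorem prime_pow_two : IsPrimePow 2 := ⟨2, 1, Nat.prime_two.prime, one_pos, rfl⟩

variable [Fintype K] (hK : Fintype.card K = 4)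
include hK

theorem del_mem (u : Kˣ) {g : GL chevE6.Idx K} (hg : g ∈ twistedE6 K 2) :
    del u * g * (del u)⁻¹ ∈ twistedE6 K 2 := by
  have hle : twistedE6 K 2 ≤ (twistedE6 K 2).comap (MulAut.conj (del u)).toMonoidHom := by
    refine TwistedLie.gen_le S K fun w hw => ?_
    rw [Subgroup.mem_comap, MulEquiv.coe_toMonoidHom, MulAut.conj_apply,
      del_wG u (TwistedLie.E6.word_roots (K := K) (q := 2) prime_pow_two (by rw [hK]; norm_num) w hw)]
    obtain ⟨s0, s1, s2, s3, s4, s5⟩ := TwistedLie.E6.simple_eq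
    obtain ⟨m0, m1, m2, m3, m4, m5⟩ := TwistedLie.E6.neg_eq
    have p0 := chi_simple u (i := 0) (by decide)
    have p1 := chi_simple u (i := 1) (by decide)
    have p2 := chi_simple u (i := 2) (by decide)
    have p3 := chi_simple u (i := 3) (by decide)
    have p4 := chi_simple u (i := 4) (by decide)
    have p5 := chi_simple u (i := 5) (by decide)
    have q0 := chi_neg u (i := 0) (by decide)
    have q1 := chi_neg u (i := 1) (by decide)
    have q2 := chi_neg u (i := 2) (by decide)
    have q3 := chi_neg u (i := 3) (by decide)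
    have q4 := chi_neg u (i := 4) (by decide)
    have q5 := chi_neg u (i := 5) (by decide)
    simp only [dval, s0, s1, s2, s3, s4, s5, m0, m1, m2, m3, m4, m5, Nat.reduceEqDiff,
      if_true, if_false, inv_one, inv_inv] at p0 p1 p2 p3 p4 p5 q0 q1 q2 q3 q4 q5
    have hu : (u : K) ^ 2 = ((u⁻¹ : Kˣ) : K) := by
      rw [← Units.val_pow_eq_pow_val]
      exact congrArg Units.val (eq_inv_of_mul_eq_one_left (by rw [← pow_succ, cube_one hK]))
    have hu' : ((u⁻¹ : Kˣ) : K) ^ 2 = (u : K) := by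
      rw [← hu, ← pow_mul, show 2 * 2 = 3 + 1 from rfl, pow_succ, ← Units.val_pow_eq_pow_val,
        cube_one hK, Units.val_one, one_mul]
    refine TwistedLie.wG_mem_gen S K ?_
    rcases hw with ⟨t, ht, r, hr, rfl⟩ | ⟨t, rs, hrs, rfl⟩
    · refine Or.inl ⟨t, ht, r, hr, ?_⟩
      simp only [e6p2, e6m2, e6p4, e6m4, List.mem_cons, List.not_mem_nil, or_false] at hr
      rcases hr with rfl | rfl | rfl | rfl <;> simp [p1, p3, q1, q3]
    · refine Or.inr ⟨(chi u rs.1 : K) * t, rs, hrs, ?_⟩
      simp only [e6p1, e6p6, e6m1, e6m6, e6p3, e6p5, e6m3, e6m5, List.mem_cons, List.not_mem_nil,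
        or_false] at hrs
      rcases hrs with rfl | rfl | rfl | rfl <;>
        simp only [List.map_cons, List.map_nil, p0, p2, p4, p5, q0, q2, q4, q5, mul_pow, hu, hu',
          Units.val_one, one_mul]
  exact hle hg

theorem eq_one_of_scaled {z : Kˣ} {g : GL chevE6.Idx K} (hg : g ∈ twistedE6 K 2)
    (h : ∀ r < chevE6.nroots, ∀ t : K,
      g * Sys.xG S K r t * g⁻¹ = Sys.xG S K r ((chi z r : K) * t)) : z = 1 := by
  set hq := prime_pow_two
  have hK2 : Fintype.card K = 2 ^ 2 := by rw [hK]; norm_num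
  set E' := TwistedLie.E6.tw hq hK2
  have hT : g ∈ E'.T := by
    refine E'.mem_T_of_normalizes (L₀ := TwistedLie.E6.longWord) (fun s hs => ?_) hg ?_ ?_
    · show (Sys.wperm S (TwistedLie.E6.longWord.flatMap TwistedLie.E6.blkF) s : ℕ) < _
      rw [TwistedLie.E6.wperm_flat]
      exact TwistedLie.E6.long_neg (s : ℕ) s.isLt hs
    · intro x hx
      have hx' := hx.1
      rw [Sys.posUnipotent_eq S] at hx' ⊢
      refine closure_conj_mem ?_ hx'
      rintro _ ⟨r, ⟨h1, h2⟩, t, rfl⟩
      rw [h r h2 t]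
      exact Subgroup.subset_closure ⟨r, ⟨h1, h2⟩, _, rfl⟩
    · intro x hx
      have hx' := hx.1
      rw [Sys.negUnipotent_eq S] at hx' ⊢
      refine closure_conj_mem ?_ hx'
      rintro _ ⟨r, h1, t, rfl⟩
      rw [h r (by omega) t]
      exact Subgroup.subset_closure ⟨r, h1, _, rfl⟩
  obtain ⟨c, hc, rfl⟩ := hT
  obtain ⟨-, h3, -, -⟩ := TwistedLie.E6.fixC_vals hq hK2 hc
  have hv : ∀ i < 6, torusVal chevE6 c (chevE6.simple i) = dval z i := by
    intro i hi
    have hlt := sysE6.wf.simple_lt i hi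
    have h' := h _ hlt 1
    rw [Sys.tor_conj S K c hlt 1] at h'
    have h'' := TwistedLie.xG_inj S K hlt h'
    rw [mul_one, mul_one, chi_simple z hi] at h''
    exact Units.ext h''
  obtain ⟨t0, -, t2, -, -, -⟩ := TwistedLie.E6.tv_all c
  rw [hv 0 (by norm_num)] at t0
  rw [hv 2 (by norm_num)] at t2
  simp only [dval] at t0 t2
  rw [TwistedLie.E6.phi_apply] at h3
  have hc3 : c 3 = 1 := by
    refine Units.ext (mul_right_cancel₀ (c 3).ne_zero ?_)
    rw [Units.val_one, one_mul, ← sq]
    exact h3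
  norm_num [hc3] at t0 t2
  rw [t0]
  have e0 : c 0 = c 2 * c 2 := by
    rw [eq_comm, inv_mul_eq_one] at t2
    exact t2
  rw [e0]
  have := cube_one hK (c 2)
  calc c 2 * c 2 * (c 2 * c 2) * (c 2)⁻¹ = c 2 ^ 3 := by simp [pow_succ, mul_assoc]
    _ = 1 := this

variable [CharP K 2] (w : K) (hw : w * w = w + 1)
include hw

theorem scalar_of_group (c : GL chevE6.Idx K)
    (hc : ∀ x : Gen, x ≠ .a → c * gv w x = gv w x * c) :
    ∃ l : K, (c : Matrix chevE6.Idx chevE6.Idx K) = l • (1 : Matrix chevE6.Idx chevE6.Idx K) := by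
  refine scalar_of_commute w hw _ fun x hx => ?_
  rw [← gv_val w hw]
  exact congrArg Units.val (hc x hx)

theorem emb_injective : Function.Injective (emb w hw) := by
  haveI := CfsgLib.CosetEnum.Fi22.simple
  rw [← MonoidHom.ker_eq_bot_iff]
  refine (MonoidHom.normal_ker _).eq_bot_or_eq_top.resolve_right fun ht => ?_
  have h1 : ∀ x : Gen, toMat chevE6 w (mg x) = 1 := fun x => by
    rw [← gv_val w hw, ← emb_of w hw, MonoidHom.mem_ker.mp (ht ▸ Subgroup.mem_top _), Units.val_one]
  let p : chevE6.Idx := Sum.inl ⟨0, by decide⟩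
  let q : chevE6.Idx := Sum.inl ⟨1, by decide⟩
  obtain ⟨l, hl⟩ := scalar_of_commute w hw (Matrix.single p p (1 : K))
    (fun x _ => by rw [h1, mul_one, one_mul])
  have hp := congrFun (congrFun hl p) p
  have hq := congrFun (congrFun hl q) q
  have hne : p ≠ q := by simp [p, q, Fin.ext_iff]
  simp [Matrix.single_apply, Matrix.one_apply, hne] at hp hq
  exact one_ne_zero (hp.trans hq.symm)

section

variable {A : Type} [Group A] [Finite A] (hA : Nat.card (Cfsg.Out A) = 2)
  (f : A →* GL chevE6.Idx K) (hinj : Function.Injective f) (hmem : ∀ x, f x ∈ twistedE6 K 2)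
  (hsc : ∀ c : GL chevE6.Idx K, (∀ x, c * f x = f x * c) →
    ∃ l : K, (c : Matrix chevE6.Idx chevE6.Idx K) = l • (1 : Matrix chevE6.Idx chevE6.Idx K))

omit [CharP K 2] hw in
include hA hinj hmem hsc in
theorem eq_one_of_normalizes {g : GL chevE6.Idx K} (hg : g ∈ twistedE6 K 2) (z : Kˣ)
    (hn : ∀ x, ∃ y, g * del z * f x * (g * del z)⁻¹ = f y) : z = 1 := by
  set n := g * del z with hndef
  choose a ha using hn
  let α₀ : A →* A :=
    MonoidHom.mk' a fun x y => hinj (by
      rw [map_mul, ← ha, ← ha, ← ha, map_mul]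
      group)
  have hαi : Function.Injective α₀ := fun x y hxy => hinj (by
    have h := congrArg (f) hxy
    change f (a x) = f (a y) at h
    rw [← ha, ← ha] at h
    exact mul_left_cancel (mul_right_cancel h))
  let α : MulAut A :=
    MulEquiv.ofBijective α₀ (Finite.injective_iff_bijective.mp hαi)
  have h2 : α ^ 2 ∈ Cfsg.Inn A :=
    Subgroup.sq_mem_of_index_two (by rw [Subgroup.index_eq_card]; exact hA) α
  obtain ⟨h, hh⟩ := h2
  set c := (f h)⁻¹ * n ^ 2 with hcdef
  have hc : ∀ x, c * f x = f x * c := by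
    intro x
    have e : α (α x) = h * x * h⁻¹ := by
      have := congrArg (fun b : MulAut A => b x) hh
      simp only [MulAut.conj_apply, pow_two, MulAut.mul_apply] at this
      exact this.symm
    have e2 : n ^ 2 * f x * (n ^ 2)⁻¹ =
        f h * f x * (f h)⁻¹ := by
      rw [← map_mul, ← map_inv, ← map_mul, ← e]
      show _ = f (a (a x))
      rw [← ha, ← ha, pow_two, mul_inv_rev]
      group
    calc c * f x = (f h)⁻¹ * (n ^ 2 * f x * (n ^ 2)⁻¹) * n ^ 2 := by
          rw [hcdef]; group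
      _ = f x * c := by rw [e2, hcdef]; group
  obtain ⟨l, hl⟩ := hsc c hc
  have hcz : ∀ y : GL chevE6.Idx K, c * y = y * c := fun y => by
    apply Units.ext
    show (c : Matrix chevE6.Idx chevE6.Idx K) * (y : Matrix chevE6.Idx chevE6.Idx K) =
      (y : Matrix chevE6.Idx chevE6.Idx K) * (c : Matrix chevE6.Idx chevE6.Idx K)
    rw [hl, smul_mul_assoc, one_mul, mul_smul_comm, mul_one]
  -- `del z ^ 2` acts as an element of the twisted group
  set g'' := g * (del z * g * (del z)⁻¹) with hg''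
  set d := del z * del z with hd
  have hn2 : n ^ 2 = g'' * d := by rw [hndef, hg'', hd, pow_two]; group
  have hgf : g''⁻¹ * f h ∈ twistedE6 K 2 :=
    mul_mem (inv_mem (mul_mem hg (del_mem hK z hg))) (hmem h)
  have hdd : d = g''⁻¹ * f h * c := by rw [hcdef, hn2]; group
  have := eq_one_of_scaled hK (z := z * z) hgf fun r hr t => by
    rw [← del_x (z * z) hr t, map_mul, ← hd, hdd, mul_inv_rev, mul_assoc (_ * _) c, hcz]
    group
  calc z = z ^ 3 * ((z * z)⁻¹) := by group
    _ = 1 := by rw [cube_one hK, this, inv_one, mul_one]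

omit [CharP K 2] hw in
include hA hinj hmem hsc in
theorem exists_three_of : ∃ H : Fin 3 → Subgroup (twistedE6 K 2),
    (∀ i, Nonempty (H i ≃* A)) ∧
    (∀ i j, i ≠ j → ∀ g : twistedE6 K 2, (H i).map (MulAut.conj g).toMonoidHom ≠ H j) := by
  classical
  have hcard : Fintype.card Kˣ = 3 := by rw [Fintype.card_units, hK]
  let u : Fin 3 ≃ Kˣ := (Fintype.equivFinOfCardEq hcard).symm
  let F : Fin 3 → (A →* twistedE6 K 2) := fun i =>
    ((MulAut.conj (del (u i))).toMonoidHom.comp f).codRestrict (twistedE6 K 2)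
      (fun x => del_mem hK (u i) (hmem x))
  have hf : ∀ i, Function.Injective (F i) := fun i x y h =>
    hinj ((MulAut.conj (del (u i))).injective (congrArg Subtype.val h))
  refine ⟨fun i => (F i).range, fun i => ⟨(MonoidHom.ofInjective (hf i)).symm⟩, ?_⟩
  intro i j hij g he
  refine hij (u.injective ?_)
  set z := (u j)⁻¹ * u i with hz
  have hg := del_mem hK (u j)⁻¹ g.2
  have := eq_one_of_normalizes hK hA f hinj hmem hsc hg z fun x => by
    have hx : g * F i x * g⁻¹ ∈ (F j).range := by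
      have he' : (F i).range.map (MulAut.conj g).toMonoidHom = (F j).range := he
      rw [← he']
      exact ⟨F i x, ⟨x, rfl⟩, rfl⟩
    obtain ⟨y, hy⟩ := hx
    refine ⟨y, ?_⟩
    have hy' : del (u j) * f y * (del (u j))⁻¹ =
        (g : GL chevE6.Idx K) * (del (u i) * f x * (del (u i))⁻¹) *
          (g : GL chevE6.Idx K)⁻¹ := congrArg Subtype.val hy
    have e : (del (u j))⁻¹ * (del (u j) * f y * (del (u j))⁻¹) * del (u j) = f y := by
      group
    rw [hy'] at e
    rw [← e, hz, map_mul, map_inv]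
    group
  rw [hz, inv_mul_eq_one] at this
  exact this.symm

end

theorem exists_three : ∃ H : Fin 3 → Subgroup (twistedE6 K 2),
    (∀ i, Cfsg.Spor.IsoFi22 (H i)) ∧
    (∀ i j, i ≠ j → ∀ g : twistedE6 K 2, (H i).map (MulAut.conj g).toMonoidHom ≠ H j) := by
  haveI := CfsgLib.CosetEnum.Fi22.finite_fi22
  exact exists_three_of hK Fi22Out.card_out (emb w hw) (emb_injective hK w hw)
    (emb_mem w hw hK) fun c hc => scalar_of_group hK w hw c fun x _ => by
      rw [← emb_of w hw]; exact hc _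

end CfsgLib.Fi22Twist
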