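import Cfsg.Agent.Fi22Twist.Main
import Cfsg.Agent.CosetEnum.Fi22.O7Iso.Iso
import Cfsg.Agent.AutOrth.OddOut
import Cfsg.Agent.Spec53.SpTorusUnipotent

/-!
Three classes of Ω₇(3) in `²E₆(2)`: the subgroup of Fi22 on the last eight generators.
-/

set_option autoImplicit false

namespace CfsgLib.Fi22Twist

open Cfsg.Lie CfsgLib.Chevalley
open scoped Matrix
open Cfsg.Spor.Fi22 (Gen)
open CfsgLib.CosetEnum CfsgLib.CosetEnum.Fi22

/-- The orthogonal group. -/
abbrev O7 : Type := Cfsg.Omega (ZMod 3) (Cfsg.quadFormOdd 3 (ZMod 3))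

theorem center_O7 : Subgroup.center O7 = ⊥ := by
  have h2 : (2 : ZMod 3) ≠ 0 := by decide
  have hQ := CfsgLib.OrthGeo.isNondegenerateQuadraticForm_quadFormOdd (F := ZMod 3) 3 h2
  have hcard : Fintype.card (Unit ⊕ (Fin 3 ⊕ Fin 3)) = 7 := by simp
  have hexc : ¬ (Nat.card (ZMod 3) = 2 ∧ Fintype.card (Unit ⊕ (Fin 3 ⊕ Fin 3)) = 4) :=
    fun h => by omega
  rw [Subgroup.eq_bot_iff_forall]
  intro g hg
  rcases CfsgLib.Classical.Orth.center_omega_pm hQ (by omega) hg with h | h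
  · exact Subtype.ext (Subtype.ext (Units.ext h))
  · exfalso
    have h1 := CfsgLib.Spec53.pow_omega_det_one hQ hexc g
    rw [h, Matrix.det_neg, Matrix.det_one, mul_one, hcard] at h1
    exact absurd h1 (by decide)

theorem card_out_O7 : Nat.card (Cfsg.Out O7) = 2 := by
  haveI : Fact (Nat.Prime 3) := ⟨Nat.prime_three⟩
  obtain ⟨hQ⟩ := CfsgLib.AutOrth.OddOut.out_equiv_zmod (F := ZMod 3) (m := 3) (p := 3) (f := 1)
    (by decide) (by norm_num) le_rfl (by simp)
  let e : Cfsg.POmega (ZMod 3) (Cfsg.quadFormOdd 3 (ZMod 3)) ≃* O7 :=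
    (QuotientGroup.quotientMulEquivOfEq center_O7).trans QuotientGroup.quotientBot
  have h : (Cfsg.Inn (Cfsg.POmega (ZMod 3) (Cfsg.quadFormOdd 3 (ZMod 3)))).map
      (MulAut.congr e).toMonoidHom = Cfsg.Inn O7 := by
    rw [Cfsg.Inn, Cfsg.Inn, MonoidHom.map_range]
    ext α
    simp only [MonoidHom.mem_range, MonoidHom.comp_apply, MulEquiv.coe_toMonoidHom]
    constructor
    · rintro ⟨x, rfl⟩
      exact ⟨e x, MulEquiv.ext fun y => by simp [MulAut.conj_apply]⟩
    · rintro ⟨x, rfl⟩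
      exact ⟨e.symm x, MulEquiv.ext fun y => by simp [MulAut.conj_apply]⟩
  rw [← Nat.card_congr (QuotientGroup.congr _ _ (MulAut.congr e) h).toEquiv,
    Nat.card_congr hQ.toEquiv, Nat.card_congr Multiplicative.toAdd, Nat.card_prod, Nat.card_zmod,
    Nat.card_zmod]

theorem exists_iso_omega : Nonempty (L7 ≃* O7) := by
  obtain ⟨e⟩ := O7Iso.nonempty_iso
  exact ⟨e.trans ((QuotientGroup.quotientMulEquivOfEq center_O7).trans QuotientGroup.quotientBot)⟩

theorem exists_three_omega {K : Type*} [Field K] [Fintype K] (hK : Fintype.card K = 4) :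
    ∃ H : Fin 3 → Subgroup (twistedE6 K 2),
      (∀ i, Nonempty ((H i) ≃* O7)) ∧
      (∀ i j, i ≠ j → ∀ g : twistedE6 K 2, (H i).map (MulAut.conj g).toMonoidHom ≠ H j) := by
  obtain ⟨hc, w, hw⟩ := exists_omega hK
  haveI := hc
  haveI := CfsgLib.CosetEnum.Fi22.finite_fi22
  obtain ⟨e⟩ := exists_iso_omega
  haveI : Finite O7 := Finite.of_equiv L7 e.toEquiv
  let f : O7 →* GL chevE6.Idx K := (emb w hw).comp (L7.subtype.comp e.symm.toMonoidHom)
  have hinj : Function.Injective f :=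
    (emb_injective hK w hw).comp (Subtype.val_injective.comp e.symm.injective)
  refine exists_three_of hK card_out_O7 f hinj (fun x => emb_mem w hw hK _) fun c hcc => ?_
  refine scalar_of_group hK w hw c fun x hx => ?_
  have hmem : (PresentedGroup.of x : Cfsg.Spor.Fi22) ∈ L7 := by
    refine Subgroup.subset_closure ⟨enc x, ?_, ?_⟩
    · cases x <;> first | exact absurd rfl hx | decide
    · show g9 (enc x) = _
      rw [g9, letterVal_lt _ (enc_lt x), gen, dec_enc]
  have := hcc (e ⟨_, hmem⟩)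
  simpa [f, emb_of] using this

end CfsgLib.Fi22Twist
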