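import Cfsg.Agent.Chevalley.Eval
import Cfsg.Agent.Chevalley.Elements

/-!
Matrices over a field with four elements, one column being two bit masks: `(lo, hi)` stands for
the vector with coordinate `i` equal to `lo.testBit i + hi.testBit i · w`, where `w² = w + 1`.
-/

set_option autoImplicit false

namespace CfsgLib.Fi22Twist

open Cfsg.Lie CfsgLib.Chevalley
open scoped Matrix

/-- A packed vector. -/
abbrev V : Type := ℕ × ℕ

/-- Sum. -/
def vadd (u v : V) : V := (u.1 ^^^ v.1, u.2 ^^^ v.2)

/-- Multiplication by `w`. -/
def wmul (v : V) : V := (v.2, v.1 ^^^ v.2)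

/-- Multiplication by a bit. -/
def pick (b : Bool) (v : V) : V := bif b then v else (0, 0)

/-- The combination of columns with the coefficients of a packed vector. -/
def app : List V → ℕ → ℕ → V
  | [], _, _ => (0, 0)
  | c :: cs, a, b =>
    vadd (vadd (pick (a.testBit 0) c) (pick (b.testBit 0) (wmul c))) (app cs (a / 2) (b / 2))

/-- Product. -/
def mulP (A B : List V) : List V := B.map fun v => app A v.1 v.2

/-- Equality of packed matrices. -/
def eqP : List V → List V → Bool
  | [], [] => true
  | a :: A, b :: B => Nat.beq a.1 b.1 && Nat.beq a.2 b.2 && eqP A B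
  | _, _ => false

theorem eqP_iff : ∀ {A B : List V}, eqP A B = true ↔ A = B
  | [], [] => by simp [eqP]
  | [], _ :: _ => by simp [eqP]
  | _ :: _, [] => by simp [eqP]
  | a :: A, b :: B => by
    simp [eqP, eqP_iff (A := A) (B := B), Bool.and_eq_true, Prod.ext_iff, and_assoc]

/-- Product of scalar codes. -/
def cmul (a b : ℕ) : ℕ :=
  (([[0, 0, 0, 0], [0, 1, 2, 3], [0, 2, 3, 1], [0, 3, 1, 2]] : List (List ℕ)).getD a []).getD b 0

/-- Power of a scalar code. -/
def cpw (a : ℕ) : ℕ → ℕ
  | 0 => 1
  | k + 1 => cmul a (cpw a k)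

/-- One coordinate. -/
def mon (i a : ℕ) : V :=
  vadd (pick (a.testBit 0) (1 <<< i, 0)) (pick (a.testBit 1) (0, 1 <<< i))

/-- The unit matrix. -/
def idP (n : ℕ) : List V := (List.range n).map fun i => mon i 1

variable (D : ChevalleyDatum)

/-- A column of a root element. -/
def colX (r a c : ℕ) : V :=
  ((colTerms D r c).map fun q => mon q.1 (bif q.2.1 % 2 == 0 then 0 else cpw a q.2.2)).foldr
    vadd (0, 0)

/-- A root element. -/
def matX (r a : ℕ) : List V := (List.range (D.rank + D.nroots)).map (colX D r a)

/-- A word in root elements. -/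
def matW (L : List (ℕ × ℕ)) : List V :=
  L.foldr (fun e P => mulP (matX D e.1 e.2) P) (idP (D.rank + D.nroots))

section val

variable {K : Type*} [Field K] (w : K)

/-- A coordinate of a packed vector. -/
def val (v : V) (i : ℕ) : K := (if v.1.testBit i then 1 else 0) + (if v.2.testBit i then w else 0)

/-- The scalar of a code. -/
def cv (a : ℕ) : K := (if a.testBit 0 then 1 else 0) + (if a.testBit 1 then w else 0)

theorem cv_zero : cv w 0 = 0 := by simp [cv]
theorem cv_one : cv w 1 = 1 := by simp [cv, Nat.testBit, Nat.shiftRight_eq_div_pow]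
theorem cv_two : cv w 2 = w := by simp [cv, Nat.testBit, Nat.shiftRight_eq_div_pow]
theorem cv_three : cv w 3 = 1 + w := by simp [cv, Nat.testBit, Nat.shiftRight_eq_div_pow]

/-- A packed matrix. -/
def toMat (M : List V) : Matrix D.Idx D.Idx K :=
  fun row col => val w (M.getD (enc D col) (0, 0)) (enc D row)

theorem val_zero (i : ℕ) : val w (0, 0) i = 0 := by simp [val]

variable [CharP K 2]

theorem val_vadd (u v : V) (i : ℕ) : val w (vadd u v) i = val w u i + val w v i := by
  simp only [val, vadd, Nat.testBit_xor]
  cases u.1.testBit i <;> cases v.1.testBit i <;> cases u.2.testBit i <;> cases v.2.testBit i <;>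
    simp [add_comm, add_left_comm, CharTwo.add_self_eq_zero, CharTwo.add_cancel_left]

theorem val_pick (b : Bool) (v : V) (i : ℕ) :
    val w (pick b v) i = (if b then 1 else 0) * val w v i := by
  cases b <;> simp [pick, val_zero]

variable (hw : w * w = w + 1)
include hw

theorem val_wmul (v : V) (i : ℕ) : val w (wmul v) i = w * val w v i := by
  simp only [val, wmul, Nat.testBit_xor]
  rcases Bool.eq_false_or_eq_true (v.1.testBit i) with h1 | h1 <;>
  rcases Bool.eq_false_or_eq_true (v.2.testBit i) with h2 | h2 <;>
    simp [h1, h2, mul_add, hw, CharTwo.add_cancel_left, add_comm]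

theorem val_app : ∀ (A : List V) (a b i : ℕ), val w (app A a b) i =
    ∑ k ∈ Finset.range A.length, val w (a, b) k * val w (A.getD k (0, 0)) i
  | [], _, _, _ => by simp [app, val_zero]
  | c :: cs, a, b, i => by
    rw [app, val_vadd, val_vadd, val_pick, val_pick, val_wmul w hw, val_app cs, List.length_cons,
      Finset.sum_range_succ']
    have e : ∀ k, val w (a / 2, b / 2) k = val w (a, b) (k + 1) := fun k => by
      simp [val, Nat.testBit_succ]
    have e0 : val w (a, b) 0 * val w c i = (if a.testBit 0 then 1 else 0) * val w c i +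
        (if b.testBit 0 then 1 else 0) * (w * val w c i) := by
      simp only [val]
      split_ifs <;> ring
    simp only [e, List.getD_cons_succ, List.getD_cons_zero]
    rw [e0]
    ring

theorem toMat_mulP {A B : List V} (hA : A.length = D.rank + D.nroots)
    (hB : B.length = D.rank + D.nroots) :
    toMat D w (mulP A B) = toMat D w A * toMat D w B := by
  ext row col
  have hc : enc D col < B.length := by
    rw [hB]; rcases col with j | s <;> simp only [enc] <;> omega
  simp only [toMat, Matrix.mul_apply, mulP]
  rw [List.getD_eq_getElem _ _ (by simpa using hc), List.getElem_map,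
    List.getD_eq_getElem _ _ hc, val_app w hw, hA]
  rw [Finset.sum_range_add, Fintype.sum_sum_type, Finset.sum_range, Finset.sum_range]
  simp only [enc, mul_comm]

theorem cv_cmul {a b : ℕ} (ha : a < 4) (hb : b < 4) : cv w (cmul a b) = cv w a * cv w b := by
  interval_cases a <;> interval_cases b <;>
    simp [cmul, cv_zero, cv_one, cv_two, cv_three, mul_add, add_mul, hw,
      CharTwo.add_self_eq_zero, CharTwo.add_cancel_left, add_comm, add_left_comm]

omit hw [CharP K 2] in
theorem cmul_lt {a b : ℕ} (ha : a < 4) (hb : b < 4) : cmul a b < 4 :=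
  (by decide : ∀ a < 4, ∀ b < 4, cmul a b < 4) a ha b hb

omit hw [CharP K 2] in
theorem cpw_lt {a : ℕ} (ha : a < 4) : ∀ k, cpw a k < 4
  | 0 => by show (1 : ℕ) < 4; omega
  | k + 1 => cmul_lt ha (cpw_lt ha k)

theorem cv_cpw {a : ℕ} (ha : a < 4) : ∀ k, cv w (cpw a k) = cv w a ^ k
  | 0 => by simp [cpw, cv_one]
  | k + 1 => by rw [cpw, cv_cmul w hw ha (cpw_lt ha k), cv_cpw ha k, pow_succ']

omit hw in
theorem val_mon (i a j : ℕ) : val w (mon i a) j = if j = i then cv w a else 0 := by
  rw [mon, val_vadd, val_pick, val_pick]
  simp only [val, Nat.one_shiftLeft, Nat.testBit_two_pow, Nat.zero_testBit, cv, decide_eq_true_eq]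
  by_cases h : j = i
  · subst h; simp
  · simp [h, Ne.symm h]

omit hw in
theorem val_foldr (L : List V) (i : ℕ) :
    val w (L.foldr vadd (0, 0)) i = (L.map fun v => val w v i).sum := by
  induction L with
  | nil => simp [val_zero]
  | cons a L ih => rw [List.foldr_cons, val_vadd, ih, List.map_cons, List.sum_cons]

omit hw in
theorem intCast_parity (k : ℤ) : (k : K) = if k % 2 = 0 then 0 else 1 := by
  conv_lhs => rw [← Int.emod_add_mul_ediv k 2]
  rcases Int.emod_two_eq_zero_or_one k with h | h <;> simp [h, CharTwo.two_eq_zero]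

theorem toMat_matX (W : WellFormed D) {r : ℕ} (hr : r < D.nroots) {a : ℕ} (ha : a < 4) :
    toMat D w (matX D r a) = D.x K r (cv w a) := by
  refine ext_bv D K fun c hc => ?_
  rw [x_bv W hr hc]
  funext row
  rw [list_sum_apply, List.map_map]
  obtain ⟨col, rfl⟩ : ∃ col : D.Idx, enc D col = c := by
    by_cases h : c < D.rank
    · exact ⟨Sum.inl ⟨c, h⟩, rfl⟩
    · exact ⟨Sum.inr ⟨c - D.rank, by omega⟩, by simp only [enc]; omega⟩
  rw [bv_enc, Matrix.mulVec_single]
  simp only [MulOpposite.op_one, one_smul, Matrix.col_apply, toMat, matX]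
  rw [List.getD_eq_getElem _ _ (by simpa using hc), List.getElem_map, List.getElem_range, colX,
    val_foldr, List.map_map]
  congr 1
  refine List.map_congr_left fun q _ => ?_
  simp only [Function.comp_apply, val_mon, Pi.smul_apply, bv, smul_eq_mul, intCast_parity]
  by_cases h : q.2.1 % 2 = 0
  · simp [h, cv_zero]
  · have hb : (q.2.1 % 2 == 0) = false := by rw [beq_eq_false_iff_ne]; exact h
    simp [hb, h, cv_cpw w hw ha]

omit hw in
theorem toMat_idP : toMat D w (idP (D.rank + D.nroots)) = 1 := by
  ext row col
  have hc : enc D col < D.rank + D.nroots := by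
    rcases col with j | s <;> simp only [enc] <;> omega
  rw [toMat, idP, List.getD_eq_getElem _ _ (by simpa using hc), List.getElem_map,
    List.getElem_range, val_mon, cv_one, Matrix.one_apply]
  simp only [(enc_injective D).eq_iff]

omit hw [CharP K 2] in
theorem length_mulP (A B : List V) : (mulP A B).length = B.length := List.length_map _

omit hw [CharP K 2] in
theorem length_matX (r a : ℕ) : (matX D r a).length = D.rank + D.nroots := by simp [matX]

omit hw [CharP K 2] in
theorem length_idP (n : ℕ) : (idP n).length = n := by simp [idP]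

omit hw [CharP K 2] in
theorem length_matW (L : List (ℕ × ℕ)) : (matW D L).length = D.rank + D.nroots := by
  induction L with
  | nil => simp [matW, length_idP]
  | cons e L ih => rw [matW, List.foldr_cons, length_mulP]; exact ih

theorem toMat_matW (S : Sys D) : ∀ (L : List (ℕ × ℕ)), (∀ e ∈ L, e.1 < D.nroots ∧ e.2 < 4) →
    toMat D w (matW D L) = D.wordMat K (L.map fun e => (e.1, cv w e.2))
  | [], _ => by simpa [matW, ChevalleyDatum.wordMat] using toMat_idP D w
  | e :: L, h => by
    rw [List.forall_mem_cons] at h
    have := toMat_matW S L h.2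
    rw [show matW D (e :: L) = mulP (matX D e.1 e.2) (matW D L) from rfl,
      toMat_mulP D w hw (length_matX D _ _) (length_matW D L),
      toMat_matX D w hw S.wf h.1.1 h.1.2, List.map_cons, wordMat_cons, this]

end val

end CfsgLib.Fi22Twist
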